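import Groth.Agent.WeilNeutral.Special
import Groth.Agent.GrpSchLib.Neutral

/-!
# Components of the special fibre and products of points
-/

set_option autoImplicit false
set_option linter.style.haveILetI false
set_option backward.isDefEq.respectTransparency false
set_option backward.isDefEq.respectTransparency.types false

universe u

open CategoryTheory CategoryTheory.Limits AlgebraicGeometry MonoidalCategory CartesianMonoidalCategory MonObj

namespace Groth.Agent.WeilNeutral

variable {A k : Type u} [CommRing A] [IsLocalRing A] [Field k] [Algebra A k]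
  {G : Over (Spec (CommRingCat.of A))}

section

variable (hs : Function.Surjective (algebraMap A k))

variable (G k) in
/-- The special fibre as a test scheme. -/
noncomputable abbrev fibT : Over (Spec (CommRingCat.of A)) :=
  Over.mk (pullback.fst G.hom (Spec.map (CommRingCat.ofHom (algebraMap A k))) ≫ G.hom)

variable (k G) in
/-- Its inclusion. -/
noncomputable abbrev fibIncl : fibT k G ⟶ G := Over.homMk (pullback.fst G.hom _)

variable (k G) in
/-- Its projection to the point. -/
noncomputable abbrev fibProj : fibT k G ⟶ Tst A k := Over.homMk (pullback.snd G.hom _) pullback.condition.symm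

/-- The lift of a point to the special fibre. -/
noncomputable def fibPt (a : Tst A k ⟶ G) : Tst A k ⟶ fibT k G :=
  Over.homMk (pullback.lift a.left (𝟙 _) (by rw [Category.id_comp]; exact Over.w a)) (by
    show pullback.lift _ _ _ ≫ pullback.fst _ _ ≫ G.hom = _
    rw [pullback.lift_fst_assoc]; exact Over.w a)

theorem fibPt_incl (a : Tst A k ⟶ G) : fibPt a ≫ fibIncl k G = a :=
  Over.OverMorphism.ext (pullback.lift_fst _ _ _)

theorem fibPt_proj (a : Tst A k ⟶ G) : fibPt a ≫ fibProj k G = 𝟙 _ :=
  Over.OverMorphism.ext (pullback.lift_snd _ _ _)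

include hs in
/-- A morphism from the special fibre respects components. -/
theorem comp_mem_component (g : fibT k G ⟶ G) {a b : Tst A k ⟶ G}
    (h : pW a ∈ connectedComponentIn (sfib G) (pW b)) :
    pW (fibPt a ≫ g) ∈ connectedComponentIn (sfib G) (pW (fibPt b ≫ g)) := by
  let κ : Spec (CommRingCat.of k) ⟶ Spec (CommRingCat.of A) := Spec.map (CommRingCat.ofHom (algebraMap A k))
  haveI : IsClosedImmersion κ := IsClosedImmersion.spec_of_surjective _ hs
  have hemb : Topology.IsEmbedding (pullback.fst G.hom κ) := (pullback.fst G.hom κ).isEmbedding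
  have hrange : Set.range (pullback.fst G.hom κ) = sfib G := by
    rw [Scheme.Pullback.range_fst]
    show G.hom ⁻¹' Set.range κ = _
    rw [show Set.range κ = {IsLocalRing.closedPoint A} from Set.eq_singleton_iff_unique_mem.2
      ⟨⟨IsLocalRing.closedPoint k, spec_map_closed _ hs _⟩, by rintro _ ⟨z, rfl⟩; exact spec_map_closed _ hs _⟩]
  have hpt : ∀ a : Tst A k ⟶ G, pullback.fst G.hom κ ((fibPt a).left (IsLocalRing.closedPoint k)) = pW a := fun a =>
    congrArg (fun m : Tst A k ⟶ G => m.left (IsLocalRing.closedPoint k)) (fibPt_incl a)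
  let K := connectedComponentIn (sfib G) (pW b)
  have hK : _root_.IsPreconnected (pullback.fst G.hom κ ⁻¹' K) := by
    rw [← hemb.isInducing.isPreconnected_image,
      Set.image_preimage_eq_of_subset ((connectedComponentIn_subset _ _).trans hrange.ge)]
    exact isPreconnected_connectedComponentIn
  refine (hK.image g.left g.left.continuous.continuousOn).subset_connectedComponentIn
    ⟨(fibPt b).left (IsLocalRing.closedPoint k), ?_, rfl⟩ ?_
    ⟨(fibPt a).left (IsLocalRing.closedPoint k), ?_, rfl⟩
  · rw [Set.mem_preimage, hpt]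
    exact mem_connectedComponentIn (pW_mem hs b)
  · rintro _ ⟨u, -, rfl⟩
    show G.hom (g.left u) = IsLocalRing.closedPoint A
    refine (congrArg (fun m => m u) (Over.w g)).trans ?_
    show G.hom (pullback.fst G.hom κ u) = _
    refine (congrArg (fun m => m u) (pullback.condition (f := G.hom) (g := κ))).trans ?_
    exact spec_map_closed _ hs _
  · rw [Set.mem_preimage, hpt]
    exact h

end

variable [GrpObj G]

variable (k) in
/-- Two points of the special fibre lie in the same component. -/
def Rel (a b : Tst A k ⟶ G) : Prop := pW a ∈ connectedComponentIn (sfib G) (pW b)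

section

variable (hs : Function.Surjective (algebraMap A k))

include hs

theorem Rel.refl (a : Tst A k ⟶ G) : Rel k a a := mem_connectedComponentIn (pW_mem hs a)

theorem Rel.symm {a b : Tst A k ⟶ G} (h : Rel k a b) : Rel k b a := by
  show pW b ∈ connectedComponentIn _ _
  rw [← connectedComponentIn_eq h]
  exact mem_connectedComponentIn (pW_mem hs b)

omit hs in
theorem Rel.trans {a b c : Tst A k ⟶ G} (h : Rel k a b) (h' : Rel k b c) : Rel k a c := by
  show pW a ∈ connectedComponentIn _ _
  rw [connectedComponentIn_eq h']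
  exact h

theorem Rel.mul_left (c : Tst A k ⟶ G) {a b : Tst A k ⟶ G} (h : Rel k a b) : Rel k (c * a) (c * b) := by
  have := comp_mem_component hs ((fibProj k G ≫ c) * fibIncl k G) h
  rwa [comp_mul, comp_mul, ← Category.assoc, ← Category.assoc, fibPt_proj, fibPt_proj, fibPt_incl, fibPt_incl,
    Category.id_comp] at this

theorem Rel.mul_right (c : Tst A k ⟶ G) {a b : Tst A k ⟶ G} (h : Rel k a b) : Rel k (a * c) (b * c) := by
  have := comp_mem_component hs (fibIncl k G * (fibProj k G ≫ c)) h
  rwa [comp_mul, comp_mul, ← Category.assoc, ← Category.assoc, fibPt_proj, fibPt_proj, fibPt_incl, fibPt_incl,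
    Category.id_comp] at this

theorem Rel.pow {a b : Tst A k ⟶ G} (h : Rel k a b) (n : ℕ) : Rel k (a ^ n) (b ^ n) := by
  induction n with
  | zero => rw [pow_zero, pow_zero]; exact Rel.refl hs 1
  | succ n ih =>
    rw [pow_succ, pow_succ]
    exact (Rel.mul_right hs a ih).trans (Rel.mul_left hs (b ^ n) h)

theorem Rel.of_mul_inv {a b : Tst A k ⟶ G} (h : Rel k (a * b⁻¹) 1) : Rel k a b := by
  have := Rel.mul_right hs b h
  rwa [inv_mul_cancel_right, _root_.one_mul] at this

theorem pW_one : pW (1 : Tst A k ⟶ G) = GrpSchLib.Neutral.unit G (IsLocalRing.closedPoint A) := by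
  have e : (1 : Tst A k ⟶ G).left = (Tst A k).hom ≫ (η[G]).left := rfl
  show ((1 : Tst A k ⟶ G).left) _ = _
  rw [e, Scheme.Hom.comp_apply]
  exact congrArg (η[G]).left (spec_map_closed _ hs _)

theorem mem_neutralSet_iff_rel (a : Tst A k ⟶ G) :
    a.left (IsLocalRing.closedPoint k) ∈ SGA3x.neutralSet G ↔ Rel k a 1 := by
  have hh : G.hom (a.left (IsLocalRing.closedPoint k)) = IsLocalRing.closedPoint A := pW_mem hs a
  rw [GrpSchLib.Neutral.mem_neutralSet_iff, hh]
  show _ ↔ pW a ∈ connectedComponentIn (sfib G) (pW (1 : Tst A k ⟶ G))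
  rw [pW_one hs]
  rfl

end

end Groth.Agent.WeilNeutral
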