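import Groth.Agent.WeilNeutral.Translate
import Mathlib.RingTheory.LocalRing.ResidueField.Basic
import Mathlib.RingTheory.LocalRing.ResidueField.Defs
import Mathlib.RingTheory.DiscreteValuationRing.Basic
import Mathlib.FieldTheory.IsAlgClosed.Basic

/-!
# Reduction of points of a Weil restriction over discrete valuation rings
-/

set_option autoImplicit false
set_option linter.style.haveILetI false
set_option backward.isDefEq.respectTransparency false
set_option backward.isDefEq.respectTransparency.types false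

universe u

open CategoryTheory CategoryTheory.Limits AlgebraicGeometry MonoidalCategory CartesianMonoidalCategory MonObj

namespace Groth.Agent.WeilNeutral

section

variable {R R' k : Type u} [CommRing R] [CommRing R'] [IsLocalRing R] [IsLocalRing R'] [Field k] [IsAlgClosed k]
  [Algebra R R'] [Algebra R k] {e : R' →ₐ[R] k} {n : ℕ} (hs : Function.Surjective (algebraMap R k))
  (hn : RingHom.ker e ^ n ≤ (RingHom.ker (algebraMap R k)).map (algebraMap R R'))
  {N' : Over (Spec (CommRingCat.of R'))} [Smooth N'.hom] {W : Over (Spec (CommRingCat.of R))}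
  {q : Red.bc (bf R R') W ⟶ N'}

include hs hn in
/-- Every point of the special fibre of `N'` is the reduction of a point of the restriction. -/
theorem exists_lift_section (hW : WeilRes.IsWeilRes (bf R R') N' W q)
    (a : Over.mk (Spec.map (CommRingCat.ofHom e.toRingHom)) ⟶ N') :
    ∃ x : Tst R k ⟶ W, τ e ≫ WeilRes.restr (bf R R') q (Tst R k) x = a := by
  let ε : Spec (CommRingCat.of k) ⟶ Spec (CommRingCat.of R') := Spec.map (CommRingCat.ofHom e.toRingHom)
  haveI : IsClosedImmersion ε := IsClosedImmersion.spec_of_surjective _ (surjective_e hs)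
  let sec (b : Over.mk ε ⟶ N') : Spec (CommRingCat.of k) ⟶ pullback N'.hom ε :=
    pullback.lift b.left (𝟙 _) (by rw [Category.id_comp]; exact Over.w b)
  have hsec : ∀ b, sec b ≫ pullback.snd N'.hom ε = 𝟙 _ := fun b => pullback.lift_snd _ _ _
  obtain ⟨V, hV, Ω, hΩ, hzΩ, hle, hconn⟩ := exists_nbhd (N' := N') (e := e) hs (sec a (IsLocalRing.closedPoint k))
  obtain ⟨c, hc⟩ := exists_link hs hn hW hV hΩ hle hconn
  obtain ⟨x, hx⟩ := (hc (sec a) (hsec a) hzΩ).1
  refine ⟨x, ?_⟩
  let b : Over.mk ε ⟶ N' := τ e ≫ WeilRes.restr (bf R R') q (Tst R k) x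
  have h : sec b = sec a := by
    refine ext_of_apply_closedPoint_eq (X := pullback N'.hom ε) (pullback.snd N'.hom ε) (hsec b) (hsec a) ?_
    refine (pullback.fst N'.hom ε).isEmbedding.injective ?_
    refine Eq.trans ?_ hx
    refine (Scheme.Hom.comp_apply (sec b) (pullback.fst N'.hom ε) _).symm.trans ?_
    exact congrArg (fun m : Spec (CommRingCat.of k) ⟶ N'.left => m (IsLocalRing.closedPoint k)) (pullback.lift_fst _ _ _)
  exact Over.OverMorphism.ext ((pullback.lift_fst _ _ _).symm.trans
    ((congrArg (fun m => m ≫ pullback.fst N'.hom ε) h).trans (pullback.lift_fst _ _ _)))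

end

variable (R : Type u) [CommRing R] [IsDomain R] [IsDiscreteValuationRing R]
  (R' : Type u) [CommRing R'] [IsDomain R'] [IsDiscreteValuationRing R'] [Algebra R R'] [Module.Finite R R']
  [FaithfulSMul R R'] [IsAlgClosed (IsLocalRing.ResidueField R)]

omit [IsDiscreteValuationRing R] [IsDiscreteValuationRing R'] [IsAlgClosed (IsLocalRing.ResidueField R)] in
theorem isLocalHom_algebraMap [IsLocalRing R] : IsLocalHom (algebraMap R R') := by
  haveI : Algebra.IsIntegral R R' := Algebra.IsIntegral.of_finite R R'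
  exact RingHom.IsIntegral.isLocalHom (algebraMap_isIntegral_iff.2 inferInstance)
    (FaithfulSMul.algebraMap_injective R R')

/-- The identification of the residue fields. -/
theorem exists_aug :
    ∃ (e : R' →ₐ[R] IsLocalRing.ResidueField R) (φ : IsLocalRing.ResidueField R →+* IsLocalRing.ResidueField R'),
      φ.comp e.toRingHom = IsLocalRing.residue R' ∧
      ∃ n : ℕ, RingHom.ker e ^ n ≤ (RingHom.ker (algebraMap R (IsLocalRing.ResidueField R))).map (algebraMap R R') := by
  haveI := isLocalHom_algebraMap R R'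
  let φ := IsLocalRing.ResidueField.map (algebraMap R R')
  have hφR : ∀ r, φ (IsLocalRing.residue R r) = IsLocalRing.residue R' (algebraMap R R' r) := fun r => rfl
  letI : Algebra (IsLocalRing.ResidueField R) (IsLocalRing.ResidueField R') := φ.toAlgebra
  haveI : IsScalarTower R (IsLocalRing.ResidueField R) (IsLocalRing.ResidueField R') :=
    IsScalarTower.of_algebraMap_eq fun r => (hφR r).symm
  haveI : Module.Finite R (IsLocalRing.ResidueField R') :=
    Module.Finite.of_surjective (IsScalarTower.toAlgHom R R' (IsLocalRing.ResidueField R')).toLinearMap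
      Ideal.Quotient.mk_surjective
  haveI : Module.Finite (IsLocalRing.ResidueField R) (IsLocalRing.ResidueField R') :=
    Module.Finite.of_restrictScalars_finite R _ _
  haveI : Algebra.IsIntegral (IsLocalRing.ResidueField R) (IsLocalRing.ResidueField R') :=
    Algebra.IsIntegral.of_finite _ _
  let ψ := RingEquiv.ofBijective φ IsAlgClosed.algebraMap_bijective_of_isIntegral
  let e : R' →ₐ[R] IsLocalRing.ResidueField R :=
    { toRingHom := ψ.symm.toRingHom.comp (IsLocalRing.residue R')
      commutes' := fun r => ψ.symm_apply_eq.2 (hφR r).symm }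
  have hker : RingHom.ker e = IsLocalRing.maximalIdeal R' := by
    ext x
    rw [RingHom.mem_ker]
    show ψ.symm (IsLocalRing.residue R' x) = 0 ↔ _
    rw [map_eq_zero_iff _ ψ.symm.injective, IsLocalRing.residue_eq_zero_iff]
  obtain ⟨ϖ, hϖ⟩ := IsDiscreteValuationRing.exists_irreducible R
  obtain ⟨ϖ', hϖ'⟩ := IsDiscreteValuationRing.exists_irreducible R'
  have hne : algebraMap R R' ϖ ≠ 0 := fun h =>
    hϖ.ne_zero (FaithfulSMul.algebraMap_injective R R' (h.trans (map_zero _).symm))
  obtain ⟨n, hn⟩ := IsDiscreteValuationRing.associated_pow_irreducible hne hϖ'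
  refine ⟨e, φ, RingHom.ext fun x => ψ.apply_symm_apply _, n, ?_⟩
  rw [hker, (IsDiscreteValuationRing.irreducible_iff_uniformizer ϖ').1 hϖ', Ideal.span_singleton_pow,
    Ideal.span_singleton_le_iff_mem]
  obtain ⟨u, hu⟩ := hn.symm
  have hmem : algebraMap R R' ϖ ∈ (RingHom.ker (algebraMap R (IsLocalRing.ResidueField R))).map (algebraMap R R') := by
    refine Ideal.mem_map_of_mem _ ?_
    rw [RingHom.mem_ker]
    exact (IsLocalRing.residue_eq_zero_iff ϖ).2 (IsLocalRing.mem_maximalIdeal ϖ |>.2 hϖ.not_isUnit)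
  have h2 : ϖ' ^ n = algebraMap R R' ϖ * ↑u⁻¹ := by rw [← hu]; exact (Units.mul_inv_cancel_right _ u).symm
  rw [h2]
  exact Ideal.mul_mem_right _ _ hmem

variable {N' : Over (Spec (CommRingCat.of R'))} [GrpObj N'] [Smooth N'.hom]
  {W : Over (Spec (CommRingCat.of R))} [GrpObj W]
  {q : Red.bc (bf R R') W ⟶ N'} [IsMonHom q]

/-- The closed point of `Spec R`. -/
noncomputable abbrev PT (A : Type u) [CommRing A] [IsLocalRing A] : Over (Spec (CommRingCat.of A)) :=
  Over.mk (Spec.map (CommRingCat.ofHom (IsLocalRing.residue A)))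

variable {R R'}

/-- Everything about reduction at the closed point. -/
theorem exists_reduction (hW : WeilRes.IsWeilRes (bf R R') N' W q) :
    ∃ Γ : (PT R ⟶ W) →* (PT R' ⟶ N'), Function.Surjective Γ ∧
      (∀ (x : PT R ⟶ W) (z : (Red.bc (bf R R') (PT R)).left),
        (WeilRes.restr (bf R R') q (PT R) x).left z = (Γ x).left (IsLocalRing.closedPoint (IsLocalRing.ResidueField R'))) ∧
      (∀ x : PT R ⟶ W, x.left (IsLocalRing.closedPoint (IsLocalRing.ResidueField R)) ∈ SGA3x.neutralSet W ↔
        (Γ x).left (IsLocalRing.closedPoint (IsLocalRing.ResidueField R')) ∈ SGA3x.neutralSet N') ∧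
      ∀ y ∈ sfib N', ∃ x : PT R ⟶ W,
        (Γ x).left (IsLocalRing.closedPoint (IsLocalRing.ResidueField R')) ∈ connectedComponentIn (sfib N') y := by
  obtain ⟨e, φ, hφ, n, hn⟩ := exists_aug R R'
  have hs : Function.Surjective (algebraMap R (IsLocalRing.ResidueField R)) := Ideal.Quotient.mk_surjective
  have hT : Spec.map (CommRingCat.ofHom φ) ≫ Spec.map (CommRingCat.ofHom e.toRingHom) =
      Spec.map (CommRingCat.ofHom (IsLocalRing.residue R')) := by
    rw [← Spec.map_comp, ← CommRingCat.ofHom_comp, hφ]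
  let j : PT R' ⟶ Over.mk (Spec.map (CommRingCat.ofHom e.toRingHom)) := Over.homMk (Spec.map (CommRingCat.ofHom φ)) hT
  have hφb : Function.Bijective φ := ⟨φ.injective, fun c => by
    obtain ⟨r, rfl⟩ := Ideal.Quotient.mk_surjective c
    exact ⟨e r, congrArg (fun m : R' →+* _ => m r) hφ⟩⟩
  haveI : IsIso (CommRingCat.ofHom φ) := (ConcreteCategory.isIso_iff_bijective _).2 hφb
  haveI : IsIso ((Over.forget _).map j) := inferInstanceAs (IsIso (Spec.map (CommRingCat.ofHom φ)))
  haveI : IsIso j := isIso_of_reflects_iso j (Over.forget _)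
  let Γ : (PT R ⟶ W) →* (PT R' ⟶ N') :=
    { toFun := fun x => j ≫ τ e ≫ WeilRes.restr (bf R R') q (PT R) x
      map_one' := by rw [WeilRes.restr_one, comp_one, comp_one]
      map_mul' := fun a b => by rw [WeilRes.restr_mul, comp_mul, comp_mul] }
  have hred : ∀ x : PT R ⟶ W, (Γ x).left (IsLocalRing.closedPoint (IsLocalRing.ResidueField R')) = red e q x :=
    fun x => by
    show (Spec.map (CommRingCat.ofHom φ) ≫ (τ e ≫ WeilRes.restr (bf R R') q (PT R) x).left) _ = _
    rw [Scheme.Hom.comp_apply, spec_map_closed φ hφb.2]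
    rfl
  have hunit : red e q (1 : PT R ⟶ W) = GrpSchLib.Neutral.unit N' (IsLocalRing.closedPoint R') := by
    rw [← hred, map_one]
    have e1 : (1 : PT R' ⟶ N').left = (PT R').hom ≫ (η[N']).left := rfl
    rw [e1, Scheme.Hom.comp_apply]
    exact congrArg (η[N']).left (spec_map_closed _ Ideal.Quotient.mk_surjective _)
  refine ⟨Γ, fun a => ?_, fun x z => (red_eq hs hn x z).trans (hred x).symm, fun x => ?_, fun y hy => ?_⟩
  · obtain ⟨x, hx⟩ := exists_lift_section hs hn hW (inv j ≫ a)
    exact ⟨x, (congrArg (fun m => j ≫ m) hx).trans (IsIso.hom_inv_id_assoc j a)⟩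
  · rw [hred]
    refine Iff.trans (mem_neutralSet_iff_rel (k := IsLocalRing.ResidueField R) hs x) ?_
    rw [GrpSchLib.Neutral.mem_neutralSet_iff,
      show N'.hom (red e q x) = IsLocalRing.closedPoint R' from red_mem hs x, ← hunit]
    exact ⟨red_mem_component hs, mem_component_of_red hs hn hW⟩
  · obtain ⟨x, hx⟩ := exists_red_mem hs hn hW hy
    exact ⟨x, (hred x).symm ▸ hx⟩

end Groth.Agent.WeilNeutral
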