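import Mathlib.RingTheory.Smooth.Basic
import Mathlib.RingTheory.TensorProduct.Maps
import Mathlib.RingTheory.Polynomial.Basic
import Mathlib.RingTheory.Spectrum.Prime.Topology

/-!
# Points over an infinitesimal thickening of a field are linked by lines
-/

set_option autoImplicit false

universe u

open TensorProduct

namespace Groth.Agent.WeilNeutral

variable {R R' k : Type u} [CommRing R] [CommRing R'] [Field k] [Algebra R R'] [Algebra R k] (e : R' →ₐ[R] k)

section

variable (C : Type u) [CommRing C] [Algebra R C] [Algebra k C] [IsScalarTower R k C]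

/-- The reduction of the thickened test ring. -/
noncomputable def aug : R' ⊗[R] C →ₐ[R] C :=
  Algebra.TensorProduct.lift ((IsScalarTower.toAlgHom R k C).comp e) (AlgHom.id R C) fun _ _ => .all _ _

@[simp] theorem aug_tmul (r : R') (c : C) : aug e C (r ⊗ₜ c) = algebraMap k C (e r) * c := by
  simp [aug]

/-- The thickening ideal. -/
noncomputable abbrev J : Ideal (R' ⊗[R] C) := RingHom.ker (aug e C)

theorem J_le (hs : Function.Surjective (algebraMap R k)) :
    J e C ≤ (RingHom.ker e).map (algebraMap R' (R' ⊗[R] C)) := by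
  have key : ∀ x : R' ⊗[R] C,
      x - (1 : R') ⊗ₜ[R] aug e C x ∈ (RingHom.ker e).map (algebraMap R' (R' ⊗[R] C)) := by
    intro x
    induction x using TensorProduct.induction_on with
    | zero => simp
    | add x y hx hy => rw [map_add, TensorProduct.tmul_add, add_sub_add_comm]; exact add_mem hx hy
    | tmul r c =>
      obtain ⟨r₀, hr₀⟩ := hs (e r)
      have h₁ : (1 : R') ⊗ₜ[R] (algebraMap k C (e r) * c) = algebraMap R R' r₀ ⊗ₜ[R] c := by
        rw [← hr₀, ← IsScalarTower.algebraMap_apply, ← Algebra.smul_def, ← TensorProduct.smul_tmul,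
          Algebra.smul_def, mul_one]
      rw [aug_tmul, h₁, ← TensorProduct.sub_tmul,
        show (r - algebraMap R R' r₀) ⊗ₜ[R] c = algebraMap R' (R' ⊗[R] C) (r - algebraMap R R' r₀) * ((1 : R') ⊗ₜ c) by
          rw [Algebra.TensorProduct.algebraMap_apply, Algebra.TensorProduct.tmul_mul_tmul]; simp]
      refine Ideal.mul_mem_right _ _ (Ideal.mem_map_of_mem _ ?_)
      rw [RingHom.mem_ker, map_sub, AlgHom.commutes, hr₀, sub_self]
  intro x hx
  have := key x
  rwa [RingHom.mem_ker.1 hx, TensorProduct.tmul_zero, sub_zero] at this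

theorem J_pow_eq_bot (hs : Function.Surjective (algebraMap R k)) {n : ℕ}
    (hn : RingHom.ker e ^ n ≤ (RingHom.ker (algebraMap R k)).map (algebraMap R R')) : J e C ^ n = ⊥ := by
  refine le_bot_iff.1 ((Ideal.pow_right_mono (J_le e C hs) n).trans ?_)
  rw [← Ideal.map_pow]
  refine (Ideal.map_mono hn).trans ?_
  rw [Ideal.map_map, Ideal.map_le_iff_le_comap]
  intro a ha
  show algebraMap R' (R' ⊗[R] C) (algebraMap R R' a) = 0
  rw [Algebra.TensorProduct.algebraMap_apply, Algebra.algebraMap_self, RingHom.id_apply,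
    show algebraMap R R' a = a • (1 : R') by rw [Algebra.smul_def, mul_one], TensorProduct.smul_tmul,
    Algebra.smul_def, mul_one, IsScalarTower.algebraMap_apply R k C, RingHom.mem_ker.1 ha, map_zero,
    TensorProduct.tmul_zero]

end

variable {C C' : Type u} [CommRing C] [Algebra R C] [Algebra k C] [IsScalarTower R k C]
  [CommRing C'] [Algebra R C'] [Algebra k C'] [IsScalarTower R k C']

/-- Change of test ring. -/
noncomputable def mapC (φ : C →ₐ[k] C') : R' ⊗[R] C →ₐ[R'] R' ⊗[R] C' :=
  Algebra.TensorProduct.map (AlgHom.id R' R') (φ.restrictScalars R)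

@[simp] theorem mapC_tmul (φ : C →ₐ[k] C') (r : R') (c : C) : mapC (R := R) (R' := R') φ (r ⊗ₜ c) = r ⊗ₜ φ c := rfl

theorem aug_mapC (φ : C →ₐ[k] C') (x : R' ⊗[R] C) : aug e C' (mapC φ x) = φ (aug e C x) := by
  induction x using TensorProduct.induction_on with
  | zero => simp
  | add x y hx hy => simp [map_add, hx, hy]
  | tmul r c => simp

theorem mapC_comp {C'' : Type u} [CommRing C''] [Algebra R C''] [Algebra k C''] [IsScalarTower R k C'']
    (φ : C →ₐ[k] C') (ψ : C' →ₐ[k] C'') (x : R' ⊗[R] C) :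
    mapC (R := R) (R' := R') ψ (mapC φ x) = mapC (ψ.comp φ) x := by
  induction x using TensorProduct.induction_on with
  | zero => simp
  | add x y hx hy => simp [map_add, hx, hy]
  | tmul r c => simp

theorem mapC_id (x : R' ⊗[R] C) : mapC (R := R) (R' := R') (AlgHom.id k C) x = x := by
  induction x using TensorProduct.induction_on with
  | zero => simp
  | add x y hx hy => simp [map_add, hx, hy]
  | tmul r c => simp

theorem mapC_mem_pow (φ : C →ₐ[k] C') {i : ℕ} {x : R' ⊗[R] C} (hx : x ∈ J e C ^ i) : mapC φ x ∈ J e C' ^ i := by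
  have h : (J e C).map (mapC (R := R) (R' := R') φ) ≤ J e C' := Ideal.map_le_iff_le_comap.2 fun y hy => by
    rw [Ideal.mem_comap, RingHom.mem_ker, aug_mapC, RingHom.mem_ker.1 hy, map_zero]
  exact Ideal.pow_right_mono h i ((Ideal.map_pow (mapC φ) (J e C) i).le (Ideal.mem_map_of_mem _ hx))

variable {B : Type u} [CommRing B] [Algebra R' B] [Algebra.FormallySmooth R' B]

/-- Maps to a test ring lift to its thickening. -/
theorem exists_lift (hs : Function.Surjective (algebraMap R k)) {n : ℕ}
    (hn : RingHom.ker e ^ n ≤ (RingHom.ker (algebraMap R k)).map (algebraMap R R'))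
    (h : B →+* C) (hh : ∀ r, h (algebraMap R' B r) = algebraMap k C (e r)) :
    ∃ f : B →ₐ[R'] R' ⊗[R] C, ∀ b, aug e C (f b) = h b := by
  let g : B →ₐ[R'] (R' ⊗[R] C) ⧸ J e C :=
    { toRingHom := ((Ideal.Quotient.mk (J e C)).comp Algebra.TensorProduct.includeRight.toRingHom).comp h
      commutes' := fun r => by
        show Ideal.Quotient.mk (J e C) ((1 : R') ⊗ₜ[R] h (algebraMap R' B r)) =
          Ideal.Quotient.mk (J e C) (algebraMap R' (R' ⊗[R] C) r)
        rw [Ideal.Quotient.eq, RingHom.mem_ker, map_sub, Algebra.TensorProduct.algebraMap_apply]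
        simp [hh] }
  obtain ⟨f, hf⟩ := Algebra.FormallySmooth.exists_lift (J e C) ⟨n, J_pow_eq_bot e C hs hn⟩ g
  refine ⟨f, fun b => ?_⟩
  have := DFunLike.congr_fun hf b
  have h2 : Ideal.Quotient.mk (J e C) (f b) = Ideal.Quotient.mk (J e C) ((1 : R') ⊗ₜ[R] h b) := this
  rw [Ideal.Quotient.eq, RingHom.mem_ker, map_sub, aug_tmul, map_one, map_one, one_mul, sub_eq_zero] at h2
  exact h2

section Line

/-- Evaluation of the parameter. -/
noncomputable def ev (t : k) : Polynomial k →ₐ[k] k := Polynomial.aeval t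

/-- Two points over the thickening with the same reduction are linked. -/
theorem rel_of_aug_eq (hs : Function.Surjective (algebraMap R k)) {n : ℕ}
    (hn : RingHom.ker e ^ n ≤ (RingHom.ker (algebraMap R k)).map (algebraMap R R'))
    (r : (B →ₐ[R'] R' ⊗[R] k) → (B →ₐ[R'] R' ⊗[R] k) → Prop) (hr : Equivalence r)
    (hline : ∀ f : B →ₐ[R'] R' ⊗[R] Polynomial k, r ((mapC (ev 0)).comp f) ((mapC (ev 1)).comp f))
    (g₀ g₁ : B →ₐ[R'] R' ⊗[R] k) (h : ∀ b, aug e k (g₀ b) = aug e k (g₁ b)) : r g₀ g₁ := by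
  suffices H : ∀ (d i : ℕ), 1 ≤ i → i + d = n + 1 → ∀ g₀ g₁ : B →ₐ[R'] R' ⊗[R] k,
      (∀ b, g₁ b - g₀ b ∈ J e k ^ i) → r g₀ g₁ from
    H n 1 le_rfl (by omega) g₀ g₁ fun b => by rw [pow_one, RingHom.mem_ker, map_sub, h, sub_self]
  intro d
  induction d with
  | zero =>
    intro i _ hid g₀ g₁ hg
    have e₀ : g₀ = g₁ := AlgHom.ext fun b => by
      have hb := Ideal.pow_le_pow_right (show n ≤ i by omega) (hg b)
      rw [J_pow_eq_bot e k hs hn] at hb
      exact (sub_eq_zero.1 (Ideal.mem_bot.1 hb)).symm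
    rw [e₀]; exact hr.refl g₁
  | succ d ih =>
    intro i hi hid g₀ g₁ hg
    let ι := mapC (R := R) (R' := R') (Algebra.ofId k (Polynomial k))
    let I := J e (Polynomial k) ^ (i + 1)
    let s : R' ⊗[R] Polynomial k := (1 : R') ⊗ₜ Polynomial.X
    let q := Ideal.Quotient.mk I
    let φ₀ : B →+* (R' ⊗[R] Polynomial k) ⧸ I :=
      { toFun := fun b => q (ι (g₀ b) + s * ι (g₁ b - g₀ b))
        map_one' := by simp
        map_mul' := fun a b => by
          rw [← map_mul]
          refine Ideal.Quotient.eq.2 ?_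
          have hda := mapC_mem_pow e (Algebra.ofId k (Polynomial k)) (hg a)
          have hdb := mapC_mem_pow e (Algebra.ofId k (Polynomial k)) (hg b)
          have hprod : ι (g₁ a - g₀ a) * ι (g₁ b - g₀ b) ∈ I :=
            Ideal.pow_le_pow_right (show i + 1 ≤ i + i by omega) (by rw [pow_add]; exact Ideal.mul_mem_mul hda hdb)
          have e₁ : g₁ (a * b) - g₀ (a * b) =
              g₀ a * (g₁ b - g₀ b) + g₀ b * (g₁ a - g₀ a) + (g₁ a - g₀ a) * (g₁ b - g₀ b) := by
            rw [map_mul, map_mul]; ring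
          rw [e₁, map_mul g₀, map_add ι, map_add ι, map_mul ι, map_mul ι, map_mul ι, map_mul ι]
          rw [show ι (g₀ a) * ι (g₀ b) + s * (ι (g₀ a) * ι (g₁ b - g₀ b) + ι (g₀ b) * ι (g₁ a - g₀ a) +
              ι (g₁ a - g₀ a) * ι (g₁ b - g₀ b)) -
              (ι (g₀ a) + s * ι (g₁ a - g₀ a)) * (ι (g₀ b) + s * ι (g₁ b - g₀ b)) =
              (s - s * s) * (ι (g₁ a - g₀ a) * ι (g₁ b - g₀ b)) by ring]
          exact Ideal.mul_mem_left _ _ hprod
        map_zero' := by simp
        map_add' := fun a b => by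
          rw [← map_add]
          congr 1
          rw [map_add g₀, map_add g₁, show g₁ a + g₁ b - (g₀ a + g₀ b) = (g₁ a - g₀ a) + (g₁ b - g₀ b) by ring,
            map_add ι, map_add ι]
          ring }
    let φ : B →ₐ[R'] (R' ⊗[R] Polynomial k) ⧸ I :=
      { toRingHom := φ₀
        commutes' := fun x => by
          show q (ι (g₀ (algebraMap R' B x)) + s * ι (g₁ (algebraMap R' B x) - g₀ (algebraMap R' B x))) = _
          rw [show g₁ (algebraMap R' B x) - g₀ (algebraMap R' B x) = 0 by rw [g₁.commutes, g₀.commutes, sub_self],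
            map_zero, mul_zero, add_zero, g₀.commutes, AlgHom.commutes]
          rfl }
    have hI : IsNilpotent I := ⟨n, by
      refine le_bot_iff.1 (le_trans (Ideal.pow_right_mono (Ideal.pow_le_self (by omega)) n) ?_)
      rw [J_pow_eq_bot e _ hs hn]⟩
    obtain ⟨f, hf⟩ := Algebra.FormallySmooth.exists_lift I hI φ
    have hev : ∀ (t : k) (b : B), mapC (ev t) (f b) -
        (g₀ b + ((1 : R') ⊗ₜ[R] t) * (g₁ b - g₀ b)) ∈ J e k ^ (i + 1) := fun t b => by
      have h2 : f b - (ι (g₀ b) + s * ι (g₁ b - g₀ b)) ∈ I := Ideal.Quotient.eq.1 (DFunLike.congr_fun hf b)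
      have h3 := mapC_mem_pow e (ev t) h2
      rw [map_sub, map_add, map_mul] at h3
      have hι : ∀ x, mapC (R := R) (R' := R') (ev t) (ι x) = x := fun x => by
        rw [mapC_comp, Subsingleton.elim ((ev t).comp (Algebra.ofId k (Polynomial k))) (AlgHom.id k k), mapC_id]
      rw [hι, hι] at h3
      rw [show mapC (R := R) (R' := R') (ev t) s = (1 : R') ⊗ₜ[R] t by simp [s, ev]] at h3
      exact h3
    refine hr.trans (ih (i + 1) (by omega) (by omega) g₀ ((mapC (ev 0)).comp f) fun b => ?_)
      (hr.trans (hline f) (ih (i + 1) (by omega) (by omega) ((mapC (ev 1)).comp f) g₁ fun b => ?_))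
    · have := hev 0 b
      rw [TensorProduct.tmul_zero, zero_mul, add_zero] at this
      exact this
    · have h1 := Ideal.neg_mem_iff _ |>.2 (hev 1 b)
      rw [← Algebra.TensorProduct.one_def, one_mul, add_sub_cancel, neg_sub] at h1
      exact h1

end Line

end Groth.Agent.WeilNeutral
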