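import Groth.Agent.WeilNeutral.Alg
import Groth.Prelude.Def_WeilRes
import Groth.Prelude.Def_SGA3x
import Groth.Prelude.Def_Red
import Mathlib.AlgebraicGeometry.Morphisms.Smooth
import Mathlib.AlgebraicGeometry.Pullbacks
import Mathlib.RingTheory.Smooth.Basic

/-!
# Points of a Weil restriction over an infinitesimal thickening
-/

set_option autoImplicit false
set_option linter.style.haveILetI false
set_option backward.isDefEq.respectTransparency false
set_option backward.isDefEq.respectTransparency.types false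

universe u

open CategoryTheory CategoryTheory.Limits AlgebraicGeometry MonObj
open scoped TensorProduct

namespace Groth.Agent.WeilNeutral

variable {R R' k : Type u} [CommRing R] [CommRing R'] [Field k] [Algebra R R'] [Algebra R k] (e : R' →ₐ[R] k)

variable (R R') in
/-- The morphism of bases. -/
noncomputable abbrev bf : Spec (CommRingCat.of R') ⟶ Spec (CommRingCat.of R) :=
  Spec.map (CommRingCat.ofHom (algebraMap R R'))

variable (R) in
/-- A test scheme. -/
noncomputable abbrev Tst (C : Type u) [CommRing C] [Algebra R C] : Over (Spec (CommRingCat.of R)) :=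
  Over.mk (Spec.map (CommRingCat.ofHom (algebraMap R C)))

variable (R R') in
/-- The base change of a test scheme is the spectrum of a tensor product. -/
noncomputable def bcIso (C : Type u) [CommRing C] [Algebra R C] :
    (Red.bc (bf R R') (Tst R C)).left ≅ Spec (CommRingCat.of (R' ⊗[R] C)) :=
  pullbackSymmetry _ _ ≪≫ pullbackSpecIso R R' C

theorem bcIso_inv_fst (C : Type u) [CommRing C] [Algebra R C] :
    (bcIso R R' C).inv ≫ pullback.fst _ _ =
      Spec.map (CommRingCat.ofHom ((Algebra.TensorProduct.includeRight : C →ₐ[R] R' ⊗[R] C) : C →+* R' ⊗[R] C)) := by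
  simp only [bcIso, Iso.trans_inv, Category.assoc, pullbackSymmetry_inv_comp_fst]
  exact pullbackSpecIso_inv_snd R R' C

theorem bcIso_inv_snd (C : Type u) [CommRing C] [Algebra R C] :
    (bcIso R R' C).inv ≫ pullback.snd _ _ = Spec.map (CommRingCat.ofHom (algebraMap R' (R' ⊗[R] C))) := by
  simp only [bcIso, Iso.trans_inv, Category.assoc, pullbackSymmetry_inv_comp_snd]
  exact pullbackSpecIso_inv_fst' R R' C

/-- The section of the base change of the closed point given by the augmentation. -/
noncomputable def τ : Over.mk (Spec.map (CommRingCat.ofHom e.toRingHom)) ⟶ Red.bc (bf R R') (Tst R k) :=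
  Over.homMk (pullback.lift (𝟙 _) (Spec.map (CommRingCat.ofHom e.toRingHom)) (by
    show 𝟙 _ ≫ Spec.map _ = Spec.map _ ≫ Spec.map _
    rw [Category.id_comp, ← Spec.map_comp, ← CommRingCat.ofHom_comp]
    exact congrArg (fun r => Spec.map (CommRingCat.ofHom r)) (RingHom.ext fun r => (e.commutes r).symm)))
    (pullback.lift_snd _ _ _)

theorem subsingleton_bc (hs : Function.Surjective (algebraMap R k)) {n : ℕ}
    (hn : RingHom.ker e ^ n ≤ (RingHom.ker (algebraMap R k)).map (algebraMap R R')) :
    Subsingleton ↥(Red.bc (bf R R') (Tst R k)).left := by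
  have hmax : (J e k).IsMaximal := RingHom.ker_isMaximal_of_surjective _ fun c => ⟨(1 : R') ⊗ₜ c, by simp⟩
  have : Subsingleton (PrimeSpectrum (R' ⊗[R] k)) := ⟨fun p q => PrimeSpectrum.ext (by
    have key : ∀ p : PrimeSpectrum (R' ⊗[R] k), p.asIdeal = J e k := fun p => by
      refine (hmax.eq_of_le p.2.ne_top ?_).symm
      refine Ideal.IsPrime.le_of_pow_le (n := n) ?_
      rw [J_pow_eq_bot e k hs hn]
      exact bot_le
    rw [key p, key q])⟩
  have : Subsingleton ↥(Spec (CommRingCat.of (R' ⊗[R] k))) := this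
  exact (bcIso R R' k).hom.homeomorph.injective.subsingleton

variable {N' : Over (Spec (CommRingCat.of R'))} (V : N'.left.Opens)

/-- Functions on an open of `N'` as an algebra over the base. -/
noncomputable abbrev algV : Algebra R' Γ(N'.left, V) :=
  ((Scheme.ΓSpecIso (CommRingCat.of R')).inv ≫ N'.hom.appLE ⊤ V le_top).hom.toAlgebra

variable {V}

theorem fromSpec_hom (hV : IsAffineOpen V) :
    hV.fromSpec ≫ N'.hom = Spec.map (CommRingCat.ofHom (@algebraMap R' Γ(N'.left, V) _ _ (algV V))) := by
  rw [← (isAffineOpen_top (Spec (CommRingCat.of R'))).SpecMap_appLE_fromSpec N'.hom hV le_top]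
  show _ = Spec.map ((Scheme.ΓSpecIso (CommRingCat.of R')).inv ≫ N'.hom.appLE ⊤ V le_top)
  rw [Spec.map_comp, IsAffineOpen.fromSpec_top]
  congr 1
  simp [Scheme.isoSpec_Spec_inv]

section

variable (hV : IsAffineOpen V)

/-- The morphism given by an algebra map. -/
noncomputable def toN {C : Type u} [CommRing C] [Algebra R C] :
    letI := algV V
    (Γ(N'.left, V) →ₐ[R'] R' ⊗[R] C) → (Red.bc (bf R R') (Tst R C) ⟶ N') :=
  letI := algV V
  fun g => Over.homMk ((bcIso R R' C).hom ≫ Spec.map (CommRingCat.ofHom g.toRingHom) ≫ hV.fromSpec) (by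
    rw [Category.assoc, Category.assoc, fromSpec_hom hV, ← Iso.eq_inv_comp, ← Spec.map_comp, ← CommRingCat.ofHom_comp]
    refine Eq.trans ?_ (bcIso_inv_snd C).symm
    exact congrArg (fun r => Spec.map (CommRingCat.ofHom r)) (RingHom.ext g.commutes))

theorem toN_comp {C C' : Type u} [CommRing C] [Algebra R C] [Algebra k C] [IsScalarTower R k C]
    [CommRing C'] [Algebra R C'] [Algebra k C'] [IsScalarTower R k C'] (φ : C →ₐ[k] C') :
    letI := algV V
    ∀ g : Γ(N'.left, V) →ₐ[R'] R' ⊗[R] C,
      (Over.pullback (bf R R')).map (Over.homMk (Spec.map (CommRingCat.ofHom φ.toRingHom)) (by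
          show Spec.map _ ≫ Spec.map _ = Spec.map _
          rw [← Spec.map_comp, ← CommRingCat.ofHom_comp]
          exact congrArg (fun r => Spec.map (CommRingCat.ofHom r)) (RingHom.ext fun r => (φ.restrictScalars R).commutes r))
          : Tst R C' ⟶ Tst R C) ≫ toN hV g = toN hV ((mapC φ).comp g) := by
  intro g
  apply Over.OverMorphism.ext
  have key : ∀ (t : Tst R C' ⟶ Tst R C), t.left = Spec.map (CommRingCat.ofHom φ.toRingHom) →
      ((Over.pullback (bf R R')).map t).left ≫ (bcIso R R' C).hom =
        (bcIso R R' C').hom ≫ Spec.map (CommRingCat.ofHom (mapC (R := R) (R' := R') φ).toRingHom) := fun t ht => by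
    have h1 : ((Over.pullback (bf R R')).map t).left ≫ pullback.fst _ _ = pullback.fst _ _ ≫ t.left :=
      pullback.lift_fst _ _ _
    have h2 : ((Over.pullback (bf R R')).map t).left ≫ pullback.snd _ _ = pullback.snd _ _ :=
      pullback.lift_snd _ _ _
    rw [← Iso.eq_comp_inv, Category.assoc, ← Iso.inv_comp_eq]
    apply pullback.hom_ext
    · rw [Category.assoc, h1, ← Category.assoc, bcIso_inv_fst, Category.assoc, bcIso_inv_fst, ht, ← Spec.map_comp,
        ← Spec.map_comp, ← CommRingCat.ofHom_comp, ← CommRingCat.ofHom_comp]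
      exact congrArg (fun r => Spec.map (CommRingCat.ofHom r)) (RingHom.ext fun c => rfl)
    · rw [Category.assoc, h2, bcIso_inv_snd, Category.assoc, bcIso_inv_snd, ← Spec.map_comp, ← CommRingCat.ofHom_comp]
      exact congrArg (fun r => Spec.map (CommRingCat.ofHom r)) (RingHom.ext fun r => ((mapC φ).commutes r).symm)
  show _ ≫ (bcIso R R' C).hom ≫ Spec.map _ ≫ hV.fromSpec = (bcIso R R' C').hom ≫ Spec.map _ ≫ hV.fromSpec
  rw [reassoc_of% (key _ rfl), ← Spec.map_comp_assoc, ← CommRingCat.ofHom_comp]
  rfl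

theorem τ_toN :
    letI := algV V
    ∀ g : Γ(N'.left, V) →ₐ[R'] R' ⊗[R] k, (τ e ≫ toN hV g).left =
      Spec.map (CommRingCat.ofHom ((aug e k).toRingHom.comp g.toRingHom)) ≫ hV.fromSpec := by
  intro g
  have h : (τ e).left ≫ (bcIso R R' k).hom = Spec.map (CommRingCat.ofHom (aug e k).toRingHom) := by
    rw [← Iso.eq_comp_inv]
    apply pullback.hom_ext
    · rw [Category.assoc, bcIso_inv_fst]
      refine (pullback.lift_fst _ _ _).trans ?_
      rw [← Spec.map_comp, ← CommRingCat.ofHom_comp]
      refine (Spec.map_id (CommRingCat.of k)).symm.trans ?_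
      exact congrArg Spec.map (CommRingCat.hom_ext (RingHom.ext fun c => by simp))
    · rw [Category.assoc, bcIso_inv_snd]
      refine (pullback.lift_snd _ _ _).trans ?_
      rw [← Spec.map_comp, ← CommRingCat.ofHom_comp]
      exact congrArg (fun r => Spec.map (CommRingCat.ofHom r)) (RingHom.ext fun r => by simp)
  show (τ e).left ≫ (bcIso R R' k).hom ≫ Spec.map _ ≫ hV.fromSpec = _
  rw [reassoc_of% h, ← Spec.map_comp_assoc, ← CommRingCat.ofHom_comp]

/-- A point with image in an affine open comes from an algebra map. -/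
theorem exists_toN (hs : Function.Surjective (algebraMap R k)) {n : ℕ}
    (hn : RingHom.ker e ^ n ≤ (RingHom.ker (algebraMap R k)).map (algebraMap R R'))
    (x : Red.bc (bf R R') (Tst R k) ⟶ N') (hx : ∀ z, x.left z ∈ V) :
    letI := algV V
    ∃ g : Γ(N'.left, V) →ₐ[R'] R' ⊗[R] k, toN hV g = x := by
  letI := algV V
  have hsub : Set.range ((bcIso R R' k).inv ≫ x.left) ⊆ Set.range hV.fromSpec := by
    rw [hV.range_fromSpec]
    rintro _ ⟨z, rfl⟩
    exact hx _
  let l := IsOpenImmersion.lift hV.fromSpec _ hsub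
  have hl : l ≫ hV.fromSpec = (bcIso R R' k).inv ≫ x.left := IsOpenImmersion.lift_fac _ _ _
  have hcomm : Spec.map (Spec.preimage l) ≫ Spec.map (CommRingCat.ofHom (algebraMap R' Γ(N'.left, V))) =
      Spec.map (CommRingCat.ofHom (algebraMap R' (R' ⊗[R] k))) := by
    rw [Spec.map_preimage, ← fromSpec_hom hV, reassoc_of% hl, ← bcIso_inv_snd]
    exact congrArg (fun w => (bcIso R R' k).inv ≫ w) (Over.w x)
  rw [← Spec.map_comp, Spec.map_inj] at hcomm
  refine ⟨{ toRingHom := (Spec.preimage l).hom, commutes' := fun r => congrArg (fun w => w.hom r) hcomm },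
    Over.OverMorphism.ext ?_⟩
  show (bcIso R R' k).hom ≫ Spec.map (CommRingCat.ofHom (Spec.preimage l).hom) ≫ hV.fromSpec = x.left
  rw [CommRingCat.ofHom_hom, Spec.map_preimage, hl, Iso.hom_inv_id_assoc]

end

end Groth.Agent.WeilNeutral
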