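import Groth.Agent.WeilNeutral.Pts
import Groth.Agent.SchTop.ZeroDim
import Mathlib.AlgebraicGeometry.AlgClosed.Basic
import Mathlib.AlgebraicGeometry.Noetherian
import Mathlib.Topology.NoetherianSpace

/-!
# The special fibre of a Weil restriction along a totally ramified extension
-/

set_option autoImplicit false
set_option linter.style.haveILetI false
set_option backward.isDefEq.respectTransparency false
set_option backward.isDefEq.respectTransparency.types false

universe u

open CategoryTheory CategoryTheory.Limits AlgebraicGeometry MonObj TopologicalSpace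

namespace Groth.Agent.WeilNeutral

variable {R R' k : Type u} [CommRing R] [CommRing R'] [IsLocalRing R] [IsLocalRing R'] [Field k] [Algebra R R']
  [Algebra R k]

theorem isOpen_connectedComponent_of_noetherian {X : Type*} [TopologicalSpace X] [NoetherianSpace X] (x : X) :
    IsOpen (connectedComponent x) := by
  rw [← isClosed_compl_iff]
  have e : (connectedComponent x)ᶜ = ⋃ Z ∈ {Z ∈ irreducibleComponents X | Disjoint Z (connectedComponent x)}, Z := by
    ext y
    simp only [Set.mem_compl_iff, Set.mem_iUnion, Set.mem_setOf_eq, exists_prop]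
    refine ⟨fun hy => ?_, fun ⟨Z, ⟨_, hd⟩, hyZ⟩ hy => Set.disjoint_left.1 hd hyZ hy⟩
    refine ⟨irreducibleComponent y, ⟨irreducibleComponent_mem_irreducibleComponents y, ?_⟩,
      mem_irreducibleComponent⟩
    refine Set.disjoint_left.2 fun z hz hz' => hy ?_
    rw [connectedComponent_eq hz']
    exact (isIrreducible_irreducibleComponent.isConnected.isPreconnected.subset_connectedComponent hz)
      mem_irreducibleComponent
  rw [e]
  exact (NoetherianSpace.finite_irreducibleComponents.subset fun Z hZ => hZ.1).isClosed_biUnion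
    fun Z hZ => isClosed_of_mem_irreducibleComponents Z hZ.1

theorem spec_map_closed {A : Type u} [CommRing A] [IsLocalRing A] (φ : A →+* k) (hφ : Function.Surjective φ)
    (z : Spec (CommRingCat.of k)) : Spec.map (CommRingCat.ofHom φ) z = IsLocalRing.closedPoint A := by
  refine PrimeSpectrum.ext ?_
  show Ideal.comap φ (z : PrimeSpectrum k).asIdeal = IsLocalRing.maximalIdeal A
  rw [Ideal.eq_bot_of_prime (z : PrimeSpectrum k).asIdeal]
  exact IsLocalRing.eq_maximalIdeal (RingHom.ker_isMaximal_of_surjective φ hφ)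

variable (e : R' →ₐ[R] k)

/-- The special fibre. -/
abbrev sfib {A : Type u} [CommRing A] [IsLocalRing A] (X : Over (Spec (CommRingCat.of A))) : Set X.left :=
  X.hom ⁻¹' {IsLocalRing.closedPoint A}

variable {N' : Over (Spec (CommRingCat.of R'))} {W : Over (Spec (CommRingCat.of R))}
  (q : Red.bc (bf R R') W ⟶ N')

/-- The value of a point of the restriction at the closed point. -/
noncomputable def pW (x : Tst R k ⟶ W) : W.left := x.left (IsLocalRing.closedPoint k)

/-- The reduction of a point of the restriction. -/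
noncomputable def red (x : Tst R k ⟶ W) : N'.left :=
  (τ e ≫ WeilRes.restr (bf R R') q (Tst R k) x).left (IsLocalRing.closedPoint k)

variable {q} {e} {n : ℕ} (hs : Function.Surjective (algebraMap R k))
  (hn : RingHom.ker e ^ n ≤ (RingHom.ker (algebraMap R k)).map (algebraMap R R'))

include hs in
theorem surjective_e : Function.Surjective e := fun c => by
  obtain ⟨r, rfl⟩ := hs c
  exact ⟨algebraMap R R' r, e.commutes r⟩

include hs hn in
theorem red_eq (x : Tst R k ⟶ W) (z : (Red.bc (bf R R') (Tst R k)).left) :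
    (WeilRes.restr (bf R R') q (Tst R k) x).left z = red e q x := by
  have := subsingleton_bc e hs hn
  rw [Subsingleton.elim z ((τ e).left (IsLocalRing.closedPoint k))]
  rfl

include hs in
theorem pW_mem (x : Tst R k ⟶ W) : pW x ∈ sfib W := by
  show W.hom (x.left (IsLocalRing.closedPoint k)) = IsLocalRing.closedPoint R
  rw [← Scheme.Hom.comp_apply, Over.w x]
  exact spec_map_closed _ hs _

theorem red_hom (x : Tst R k ⟶ W) :
    (τ e ≫ WeilRes.restr (bf R R') q (Tst R k) x).left ≫ N'.hom = Spec.map (CommRingCat.ofHom e.toRingHom) :=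
  Over.w _

include hs in
theorem red_mem (x : Tst R k ⟶ W) : red e q x ∈ sfib N' := by
  show N'.hom (red e q x) = IsLocalRing.closedPoint R'
  rw [red, ← Scheme.Hom.comp_apply, red_hom]
  exact spec_map_closed _ (surjective_e hs) _

include hs in
/-- Reduction maps connected subsets of the special fibre to connected subsets. -/
theorem red_mem_component {x y : Tst R k ⟶ W} (h : pW x ∈ connectedComponentIn (sfib W) (pW y)) :
    red e q x ∈ connectedComponentIn (sfib N') (red e q y) := by
  let κ : Spec (CommRingCat.of k) ⟶ Spec (CommRingCat.of R) := Spec.map (CommRingCat.ofHom (algebraMap R k))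
  haveI : IsClosedImmersion κ := IsClosedImmersion.spec_of_surjective _ hs
  let ε : Spec (CommRingCat.of k) ⟶ Spec (CommRingCat.of R') := Spec.map (CommRingCat.ofHom e.toRingHom)
  have hεκ : ε ≫ bf R R' = κ := by
    rw [← Spec.map_comp, ← CommRingCat.ofHom_comp]
    exact congrArg (fun r => Spec.map (CommRingCat.ofHom r)) (RingHom.ext fun r => e.commutes r)
  let X : Over (Spec (CommRingCat.of R)) := Over.mk (pullback.fst W.hom κ ≫ W.hom)
  let jX : X ⟶ W := Over.homMk (pullback.fst W.hom κ)
  let s : X.left ⟶ (Red.bc (bf R R') X).left := pullback.lift (𝟙 _) (pullback.snd W.hom κ ≫ ε) (by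
    rw [Category.id_comp, Category.assoc, hεκ]
    exact pullback.condition)
  let ρ : X.left ⟶ N'.left := s ≫ (WeilRes.restr (bf R R') q X jX).left
  have hρ : ∀ u : X.left, ρ u ∈ sfib N' := fun u => by
    show N'.hom (ρ u) = IsLocalRing.closedPoint R'
    rw [← Scheme.Hom.comp_apply, Category.assoc, Over.w (WeilRes.restr (bf R R') q X jX)]
    show (s ≫ pullback.snd _ _) u = _
    rw [pullback.lift_snd, Scheme.Hom.comp_apply]
    exact spec_map_closed _ (surjective_e hs) _
  have hlift : ∀ x : Tst R k ⟶ W, ∃ u : X.left, pullback.fst W.hom κ u = pW x ∧ ρ u = red e q x := fun x => by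
    let t : Tst R k ⟶ X := Over.homMk (pullback.lift x.left (𝟙 _) (by rw [Category.id_comp]; exact Over.w x)) (by
      show pullback.lift _ _ _ ≫ pullback.fst _ _ ≫ W.hom = _
      rw [pullback.lift_fst_assoc]; exact Over.w x)
    have ht : t ≫ jX = x := Over.OverMorphism.ext (pullback.lift_fst _ _ _)
    refine ⟨t.left (IsLocalRing.closedPoint k), congrArg (fun m => m (IsLocalRing.closedPoint k)) (pullback.lift_fst x.left (𝟙 _) _), ?_⟩
    have key : (τ e).left ≫ ((Over.pullback (bf R R')).map t).left = t.left ≫ s := by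
      apply pullback.hom_ext
      · rw [Category.assoc, Category.assoc]
        refine (congrArg (fun m => (τ e).left ≫ m) (pullback.lift_fst _ _ _)).trans ?_
        rw [← Category.assoc]
        refine (congrArg (fun m => m ≫ t.left) (pullback.lift_fst _ _ _)).trans ?_
        exact (Category.id_comp _).trans ((congrArg (fun m => t.left ≫ m) (pullback.lift_fst _ _ _)).trans (Category.comp_id _)).symm
      · rw [Category.assoc, Category.assoc]
        refine (congrArg (fun m => (τ e).left ≫ m) (pullback.lift_snd _ _ _)).trans ?_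
        refine Eq.trans ?_ (congrArg (fun m => t.left ≫ m) (pullback.lift_snd _ _ _)).symm
        refine (pullback.lift_snd _ _ _).trans ?_
        show ε = pullback.lift x.left (𝟙 _) _ ≫ pullback.snd W.hom κ ≫ ε
        rw [pullback.lift_snd_assoc]
        exact (Category.id_comp _).symm
    show (t.left ≫ ρ) _ = _
    rw [red, ← ht, WeilRes.restr_comp]
    simp only [ρ, Over.comp_left]
    rw [← reassoc_of% key]
    rfl
  obtain ⟨ux, hux, hux'⟩ := hlift x
  obtain ⟨uy, huy, huy'⟩ := hlift y
  have hemb : Topology.IsEmbedding (pullback.fst W.hom κ) := (pullback.fst W.hom κ).isEmbedding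
  have hrange : Set.range (pullback.fst W.hom κ) = sfib W := by
    rw [Scheme.Pullback.range_fst]
    show W.hom ⁻¹' Set.range κ = _
    rw [show Set.range κ = {IsLocalRing.closedPoint R} from Set.eq_singleton_iff_unique_mem.2
      ⟨⟨IsLocalRing.closedPoint k, spec_map_closed _ hs _⟩, by rintro _ ⟨z, rfl⟩; exact spec_map_closed _ hs _⟩]
  let K := connectedComponentIn (sfib W) (pW y)
  have hK : _root_.IsPreconnected (pullback.fst W.hom κ ⁻¹' K) := by
    rw [← hemb.isInducing.isPreconnected_image,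
      Set.image_preimage_eq_of_subset ((connectedComponentIn_subset _ _).trans hrange.ge)]
    exact isPreconnected_connectedComponentIn
  refine (hK.image ρ ρ.continuous.continuousOn).subset_connectedComponentIn
    ⟨uy, by rw [Set.mem_preimage, huy]; exact mem_connectedComponentIn (pW_mem hs y), huy'⟩ ?_
    ⟨ux, by rw [Set.mem_preimage, hux]; exact h, hux'⟩
  rintro _ ⟨u, -, rfl⟩
  exact hρ u

variable [IsAlgClosed k] [Smooth N'.hom]

include hs hn in
/-- Over a connected affine open of the special fibre all lifts lie in one component. -/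
theorem exists_link (hW : WeilRes.IsWeilRes (bf R R') N' W q) {V : N'.left.Opens} (hV : IsAffineOpen V)
    {Ω : (pullback N'.hom (Spec.map (CommRingCat.ofHom e.toRingHom))).Opens} (hΩ : IsAffineOpen Ω)
    (hle : Ω ≤ pullback.fst N'.hom _ ⁻¹ᵁ V) (hconn : _root_.IsPreconnected (Ω : Set ↥(pullback N'.hom (Spec.map (CommRingCat.ofHom e.toRingHom))))) :
    ∃ c : Set W.left, ∀ p : Spec (CommRingCat.of k) ⟶ pullback N'.hom (Spec.map (CommRingCat.ofHom e.toRingHom)),
      p ≫ pullback.snd _ _ = 𝟙 _ → p (IsLocalRing.closedPoint k) ∈ Ω →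
      (∃ x : Tst R k ⟶ W, red e q x = pullback.fst N'.hom _ (p (IsLocalRing.closedPoint k))) ∧
        ∀ x : Tst R k ⟶ W, red e q x = pullback.fst N'.hom _ (p (IsLocalRing.closedPoint k)) →
          connectedComponentIn (sfib W) (pW x) = c := by
  letI := algV V
  let ε : Spec (CommRingCat.of k) ⟶ Spec (CommRingCat.of R') := Spec.map (CommRingCat.ofHom e.toRingHom)
  let π := pullback.fst N'.hom ε
  let Nk : Over (Spec (CommRingCat.of k)) := Over.mk (pullback.snd N'.hom ε)
  let C : Type u := Γ(Nk.left, Ω)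
  letI : Algebra k C := algV (N' := Nk) Ω
  letI : Algebra R C := ((algebraMap k C).comp (algebraMap R k)).toAlgebra
  haveI : IsScalarTower R k C := IsScalarTower.of_algebraMap_eq fun _ => rfl
  haveI : Algebra.FormallySmooth R' Γ(N'.left, V) := by
    have h := HasRingHomProperty.appLE (P := @Smooth) N'.hom ‹_› ⟨⊤, isAffineOpen_top _⟩ ⟨V, hV⟩ le_top
    have h' : RingHom.Smooth (algebraMap R' Γ(N'.left, V)) :=
      RingHom.Smooth.comp (RingHom.Smooth.of_bijective (ConcreteCategory.bijective_of_isIso (Scheme.ΓSpecIso (CommRingCat.of R')).inv)) h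
    rw [RingHom.smooth_algebraMap] at h'
    exact h'.formallySmooth
  let hh : Γ(N'.left, V) →+* C := (π.appLE V Ω hle).hom
  have hhs : Spec.map (CommRingCat.ofHom hh) ≫ hV.fromSpec = hΩ.fromSpec ≫ π :=
    hV.SpecMap_appLE_fromSpec π hΩ hle
  have hcompat : ∀ r, hh (algebraMap R' Γ(N'.left, V) r) = algebraMap k C (e r) := fun r => by
    have h' : CommRingCat.ofHom (algebraMap R' Γ(N'.left, V)) ≫ CommRingCat.ofHom hh =
        CommRingCat.ofHom e.toRingHom ≫ CommRingCat.ofHom (algebraMap k C) := by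
      apply Spec.map_injective
      rw [Spec.map_comp, Spec.map_comp, ← fromSpec_hom hV, reassoc_of% hhs, pullback.condition,
        ← Category.assoc]
      exact congrArg (fun m => m ≫ ε) (fromSpec_hom (N' := Nk) hΩ)
    exact congrArg (fun m => m.hom r) h'
  obtain ⟨f, hf⟩ := exists_lift e hs hn hh hcompat
  let Φ : Tst R C ⟶ W := hW.lift (Tst R C) (toN hV f)
  have hC : _root_.IsPreconnected (Set.univ : Set ↥(Tst R C).left) := by
    have : _root_.IsPreconnected (Set.range hΩ.fromSpec) := by rwa [hΩ.range_fromSpec]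
    rw [← hΩ.fromSpec.isEmbedding.isInducing.isPreconnected_image, Set.image_univ]
    exact this
  let c : Set W.left := ⋃ z : ↥(Tst R C).left, connectedComponentIn (sfib W) (Φ.left z)
  have hΦ : ∀ z, Φ.left z ∈ sfib W := fun z => by
    show W.hom (Φ.left z) = IsLocalRing.closedPoint R
    rw [← Scheme.Hom.comp_apply, Over.w Φ]
    show Spec.map (CommRingCat.ofHom ((algebraMap k C).comp (algebraMap R k))) z = _
    rw [CommRingCat.ofHom_comp, Spec.map_comp, Scheme.Hom.comp_apply]
    exact spec_map_closed _ hs _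
  have hc : ∀ z, connectedComponentIn (sfib W) (Φ.left z) = c := fun z => by
    refine subset_antisymm (Set.subset_iUnion (fun z => connectedComponentIn (sfib W) (Φ.left z)) z) ?_
    refine Set.iUnion_subset fun z' => ?_
    rw [connectedComponentIn_eq ((hC.image Φ.left Φ.left.continuous.continuousOn).subset_connectedComponentIn
      ⟨z, trivial, rfl⟩ (by rintro _ ⟨w, -, rfl⟩; exact hΦ w) ⟨z', trivial, rfl⟩)]
  refine ⟨c, fun p hp hpΩ => ?_⟩
  have hsub : Set.range p ⊆ Set.range hΩ.fromSpec := by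
    rw [hΩ.range_fromSpec]
    rintro _ ⟨z, rfl⟩
    rw [Subsingleton.elim z (IsLocalRing.closedPoint k)]
    exact hpΩ
  let l := IsOpenImmersion.lift hΩ.fromSpec p hsub
  have hl : l ≫ hΩ.fromSpec = p := IsOpenImmersion.lift_fac _ _ _
  have hχ : CommRingCat.ofHom (algebraMap k C) ≫ Spec.preimage l = 𝟙 (CommRingCat.of k) := by
    apply Spec.map_injective
    rw [Spec.map_comp, Spec.map_preimage, Spec.map_id, ← fromSpec_hom (N' := Nk) hΩ, reassoc_of% hl]
    exact hp
  let χ : C →ₐ[k] k := { toRingHom := (Spec.preimage l).hom, commutes' := fun r => congrArg (fun m => m.hom r) hχ }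
  let tχ : Tst R k ⟶ Tst R C := Over.homMk (Spec.map (CommRingCat.ofHom χ.toRingHom)) (by
    show Spec.map _ ≫ Spec.map _ = Spec.map _
    rw [← Spec.map_comp, ← CommRingCat.ofHom_comp]
    exact congrArg (fun r => Spec.map (CommRingCat.ofHom r)) (RingHom.ext fun r => (χ.restrictScalars R).commutes r))
  let g₀ : Γ(N'.left, V) →ₐ[R'] TensorProduct R R' k := (mapC χ).comp f
  have hx₀ : WeilRes.restr (bf R R') q (Tst R k) (tχ ≫ Φ) = toN hV g₀ := by
    rw [WeilRes.restr_comp, hW.restr_lift]
    exact toN_comp hV χ f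
  have haug : ∀ b, aug e k (g₀ b) = χ (hh b) := fun b => by
    show aug e k (mapC χ (f b)) = _
    rw [aug_mapC, hf]
  have hpπ : Spec.map (CommRingCat.ofHom ((aug e k).toRingHom.comp g₀.toRingHom)) ≫ hV.fromSpec = p ≫ π := by
    rw [show (aug e k).toRingHom.comp g₀.toRingHom = χ.toRingHom.comp hh from RingHom.ext haug,
      CommRingCat.ofHom_comp, Spec.map_comp, Category.assoc, hhs, ← Category.assoc]
    show (Spec.map (Spec.preimage l) ≫ _) ≫ π = _
    rw [Spec.map_preimage, hl]
  refine ⟨⟨tχ ≫ Φ, ?_⟩, fun x hx => ?_⟩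
  · rw [red, hx₀, τ_toN, hpπ]
    rfl
  · obtain ⟨g, hg⟩ := exists_toN e hV hs hn (WeilRes.restr (bf R R') q (Tst R k) x) fun z => by
      rw [red_eq hs hn, hx]
      exact hle hpΩ
    have hr : (τ e ≫ toN hV g).left = (τ e ≫ toN hV g₀).left := by
      let p' : Spec (CommRingCat.of k) ⟶ Nk.left := pullback.lift (τ e ≫ toN hV g).left (𝟙 _) (by
        rw [Category.id_comp]; exact Over.w (τ e ≫ toN hV g))
      have hp' : p' = p := by
        refine ext_of_apply_closedPoint_eq (X := Nk.left) (pullback.snd N'.hom ε) (pullback.lift_snd _ _ _) hp ?_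
        haveI : IsClosedImmersion ε := IsClosedImmersion.spec_of_surjective _ (surjective_e hs)
        refine π.isEmbedding.injective (Eq.trans ?_ hx)
        refine (Scheme.Hom.comp_apply p' π _).symm.trans ?_
        refine (congrArg (fun m : Spec (CommRingCat.of k) ⟶ N'.left => m (IsLocalRing.closedPoint k))
          (pullback.lift_fst _ _ _)).trans ?_
        rw [hg]
        rfl
      rw [τ_toN e hV g₀, hpπ, ← hp']
      exact (pullback.lift_fst _ _ _).symm
    rw [τ_toN, τ_toN, cancel_mono] at hr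
    have hag : ∀ b, aug e k (g b) = aug e k (g₀ b) := fun b =>
      congrArg (fun m => m.hom b) (Spec.map_injective hr)
    have hcls := rel_of_aug_eq e hs hn
      (fun a b => connectedComponentIn (sfib W) (pW (hW.lift (Tst R k) (toN hV a))) =
        connectedComponentIn (sfib W) (pW (hW.lift (Tst R k) (toN hV b))))
      ⟨fun _ => rfl, fun h => h.symm, fun h h' => h.trans h'⟩ (fun F => ?_) g g₀ hag
    · rw [show hW.lift (Tst R k) (toN hV g) = x by rw [hg, hW.lift_restr],
        show hW.lift (Tst R k) (toN hV g₀) = tχ ≫ Φ by rw [← hx₀, hW.lift_restr]] at hcls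
      rw [hcls]
      exact hc _
    · let t : k → (Tst R k ⟶ Tst R (Polynomial k)) := fun a =>
        Over.homMk (Spec.map (CommRingCat.ofHom (ev a).toRingHom)) (by
          show Spec.map _ ≫ Spec.map _ = Spec.map _
          rw [← Spec.map_comp, ← CommRingCat.ofHom_comp]
          exact congrArg (fun r => Spec.map (CommRingCat.ofHom r))
            (RingHom.ext fun r => ((ev a).restrictScalars R).commutes r))
      let L : Tst R (Polynomial k) ⟶ W := hW.lift _ (toN hV F)
      have hlift : ∀ a : k, hW.lift (Tst R k) (toN hV ((mapC (ev a)).comp F)) = t a ≫ L := fun a => by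
        refine (hW _).injective ?_
        rw [hW.restr_lift, WeilRes.restr_comp, hW.restr_lift]
        exact (toN_comp hV (ev a) F).symm
      show connectedComponentIn (sfib W) (pW (hW.lift _ _)) = connectedComponentIn (sfib W) (pW (hW.lift _ _))
      rw [hlift, hlift]
      haveI : PreconnectedSpace ↥(Tst R (Polynomial k)).left :=
        inferInstanceAs (PreconnectedSpace ↥(Spec (CommRingCat.of (Polynomial k))))
      refine connectedComponentIn_eq ((isPreconnected_univ.image L.left L.left.continuous.continuousOn).subset_connectedComponentIn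
        ⟨(t 0).left (IsLocalRing.closedPoint k), trivial, rfl⟩ ?_ ⟨(t 1).left (IsLocalRing.closedPoint k), trivial, rfl⟩)
      rintro _ ⟨w, -, rfl⟩
      show W.hom (L.left w) = IsLocalRing.closedPoint R
      rw [← Scheme.Hom.comp_apply, Over.w L]
      show Spec.map (CommRingCat.ofHom (algebraMap R (Polynomial k))) w = _
      rw [IsScalarTower.algebraMap_eq R k (Polynomial k), CommRingCat.ofHom_comp, Spec.map_comp, Scheme.Hom.comp_apply]
      exact spec_map_closed _ hs _

include hs in
theorem exists_nbhd (z : ↥(pullback N'.hom (Spec.map (CommRingCat.ofHom e.toRingHom)))) :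
    ∃ (V : N'.left.Opens) (_ : IsAffineOpen V) (Ω : (pullback N'.hom (Spec.map (CommRingCat.ofHom e.toRingHom))).Opens)
      (_ : IsAffineOpen Ω), z ∈ Ω ∧ Ω ≤ pullback.fst N'.hom _ ⁻¹ᵁ V ∧ _root_.IsPreconnected (Ω : Set ↥(pullback N'.hom (Spec.map (CommRingCat.ofHom e.toRingHom)))) := by
  let π := pullback.fst N'.hom (Spec.map (CommRingCat.ofHom e.toRingHom))
  obtain ⟨_, ⟨V, hV, rfl⟩, hzV, -⟩ := N'.left.isBasis_affineOpens.exists_subset_of_mem_open (Set.mem_univ (π z)) isOpen_univ
  obtain ⟨_, ⟨Ω₀, hΩ₀, rfl⟩, hzΩ, hsub⟩ := (pullback N'.hom (Spec.map (CommRingCat.ofHom e.toRingHom))).isBasis_affineOpens.exists_subset_of_mem_open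
    (show z ∈ π ⁻¹ᵁ V from hzV) (π ⁻¹ᵁ V).isOpen
  haveI : IsLocallyNoetherian (pullback N'.hom (Spec.map (CommRingCat.ofHom e.toRingHom))) :=
    LocallyOfFiniteType.isLocallyNoetherian (pullback.snd N'.hom (Spec.map (CommRingCat.ofHom e.toRingHom)))
  have hA : IsAffine (Scheme.Opens.toScheme (X := pullback N'.hom (Spec.map (CommRingCat.ofHom e.toRingHom))) Ω₀) := hΩ₀
  haveI : IsNoetherian (Scheme.Opens.toScheme (X := pullback N'.hom (Spec.map (CommRingCat.ofHom e.toRingHom))) Ω₀) := { }
  let Wc : (Scheme.Opens.toScheme (X := pullback N'.hom (Spec.map (CommRingCat.ofHom e.toRingHom))) Ω₀).Opens := ⟨connectedComponent ⟨z, hzΩ⟩, isOpen_connectedComponent_of_noetherian _⟩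
  have hWc : IsAffineOpen Wc := by
    have := SchTop.isAffineOpen_inf_of_isClopen (isAffineOpen_top (Scheme.Opens.toScheme (X := pullback N'.hom (Spec.map (CommRingCat.ofHom e.toRingHom))) Ω₀))
      (V := Wc) ⟨isClosed_connectedComponent, Wc.isOpen⟩
    rwa [top_inf_eq] at this
  refine ⟨V, hV, (Scheme.Opens.ι (X := pullback N'.hom (Spec.map (CommRingCat.ofHom e.toRingHom))) Ω₀) ''ᵁ Wc, hWc.image_of_isOpenImmersion (Scheme.Opens.ι (X := pullback N'.hom (Spec.map (CommRingCat.ofHom e.toRingHom))) Ω₀), ⟨⟨z, hzΩ⟩, mem_connectedComponent, rfl⟩, ?_, ?_⟩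
  · rintro _ ⟨w, -, rfl⟩
    exact hsub w.2
  · exact isPreconnected_connectedComponent.image _ (Scheme.Opens.ι (X := pullback N'.hom (Spec.map (CommRingCat.ofHom e.toRingHom))) Ω₀).continuous.continuousOn

/-- The point of the special fibre of a point of the restriction. -/
theorem exists_section (x : Tst R k ⟶ W) :
    ∃ p : Spec (CommRingCat.of k) ⟶ pullback N'.hom (Spec.map (CommRingCat.ofHom e.toRingHom)),
      p ≫ pullback.snd _ _ = 𝟙 _ ∧ pullback.fst N'.hom _ (p (IsLocalRing.closedPoint k)) = red e q x := by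
  refine ⟨pullback.lift (τ e ≫ WeilRes.restr (bf R R') q (Tst R k) x).left (𝟙 _) (by
    rw [Category.id_comp]; exact red_hom x), pullback.lift_snd _ _ _, ?_⟩
  rw [← Scheme.Hom.comp_apply, pullback.lift_fst]
  rfl

include hs hn in
/-- A point reduces into a component of the special fibre iff it lies in the matching component. -/
theorem mem_component_of_red (hW : WeilRes.IsWeilRes (bf R R') N' W q) {x y : Tst R k ⟶ W}
    (h : red e q x ∈ connectedComponentIn (sfib N') (red e q y)) :
    pW x ∈ connectedComponentIn (sfib W) (pW y) := by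
  let ε : Spec (CommRingCat.of k) ⟶ Spec (CommRingCat.of R') := Spec.map (CommRingCat.ofHom e.toRingHom)
  haveI : IsClosedImmersion ε := IsClosedImmersion.spec_of_surjective _ (surjective_e hs)
  let π := pullback.fst N'.hom ε
  let snd' := pullback.snd N'.hom ε
  haveI : JacobsonSpace ↥(pullback N'.hom ε) := LocallyOfFiniteType.jacobsonSpace snd'
  obtain ⟨py, hpy, hy⟩ := exists_section (e := e) (q := q) y
  obtain ⟨px, hpx, hx⟩ := exists_section (e := e) (q := q) x
  let C₁ := connectedComponentIn (sfib W) (pW y)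
  let Good : (Spec (CommRingCat.of k) ⟶ pullback N'.hom ε) → Prop := fun p =>
    ∀ x : Tst R k ⟶ W, red e q x = π (p (IsLocalRing.closedPoint k)) → connectedComponentIn (sfib W) (pW x) = C₁
  let O : Bool → Set ↥(pullback N'.hom ε) := fun b =>
    {z | ∃ (V : N'.left.Opens) (_ : IsAffineOpen V) (Ω : (pullback N'.hom ε).Opens) (_ : IsAffineOpen Ω),
      z ∈ Ω ∧ Ω ≤ π ⁻¹ᵁ V ∧ _root_.IsPreconnected (Ω : Set ↥(pullback N'.hom ε)) ∧
        ∃ p, p ≫ snd' = 𝟙 _ ∧ p (IsLocalRing.closedPoint k) ∈ Ω ∧ (b = true ↔ Good p)}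
  have hO : ∀ b, IsOpen (O b) := fun b => isOpen_iff_forall_mem_open.2 fun z hz => by
    obtain ⟨V, hV, Ω, hΩ, hzΩ, hle, hconn, hp⟩ := hz
    exact ⟨Ω, fun w hw => ⟨V, hV, Ω, hΩ, hw, hle, hconn, hp⟩, Ω.isOpen, hzΩ⟩
  have hpt : ∀ (Ω : (pullback N'.hom ε).Opens), (Ω : Set ↥(pullback N'.hom ε)).Nonempty →
      ∃ p, p ≫ snd' = 𝟙 _ ∧ p (IsLocalRing.closedPoint k) ∈ Ω := fun Ω hΩ => by
    obtain ⟨w, hw, hwc⟩ := nonempty_inter_closedPoints hΩ Ω.isOpen.isLocallyClosed
    exact ⟨pointOfClosedPoint snd' w hwc, pointOfClosedPoint_comp _ _ _,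
      (pointOfClosedPoint_apply snd' w hwc _).symm ▸ hw⟩
  have hall : ∀ {V : N'.left.Opens} (_ : IsAffineOpen V) {Ω : (pullback N'.hom ε).Opens} (_ : IsAffineOpen Ω),
      Ω ≤ π ⁻¹ᵁ V → _root_.IsPreconnected (Ω : Set ↥(pullback N'.hom ε)) →
      ∀ p p', p ≫ snd' = 𝟙 _ → p (IsLocalRing.closedPoint k) ∈ Ω → p' ≫ snd' = 𝟙 _ →
        p' (IsLocalRing.closedPoint k) ∈ Ω → Good p → Good p' := by
    intro V hV Ω hΩ hle hconn p p' hp hpΩ hp' hpΩ' hg x' hx'
    obtain ⟨c, hc⟩ := exists_link hs hn hW hV hΩ hle hconn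
    obtain ⟨x₀, hx₀⟩ := (hc p hp hpΩ).1
    rw [(hc p' hp' hpΩ').2 x' hx', ← (hc p hp hpΩ).2 x₀ hx₀]
    exact hg x₀ hx₀
  have hcover : ∀ z, z ∈ O true ∨ z ∈ O false := fun z => by
    obtain ⟨V, hV, Ω, hΩ, hzΩ, hle, hconn⟩ := exists_nbhd (N' := N') (e := e) hs z
    obtain ⟨p, hp, hpΩ⟩ := hpt Ω ⟨z, hzΩ⟩
    by_cases hg : Good p
    · exact Or.inl ⟨V, hV, Ω, hΩ, hzΩ, hle, hconn, p, hp, hpΩ, by simp [hg]⟩
    · exact Or.inr ⟨V, hV, Ω, hΩ, hzΩ, hle, hconn, p, hp, hpΩ, by simp [hg]⟩
  have hdisj : ∀ z, z ∈ O true → z ∉ O false := by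
    rintro z ⟨V, hV, Ω, hΩ, hzΩ, hle, hconn, p, hp, hpΩ, hg⟩ ⟨V', hV', Ω', hΩ', hzΩ', hle', hconn', p', hp', hpΩ', hg'⟩
    obtain ⟨p₀, hp₀, hpΩ₀⟩ := hpt (Ω ⊓ Ω') ⟨z, hzΩ, hzΩ'⟩
    have h₀ : Good p₀ := hall hV hΩ hle hconn p p₀ hp hpΩ hp₀ hpΩ₀.1 (hg.1 rfl)
    exact absurd (hg'.2 (hall hV' hΩ' hle' hconn' p₀ p' hp₀ hpΩ₀.2 hp' hpΩ' h₀)) (by simp)
  have hclopen : IsClopen (O true) := by
    refine ⟨?_, hO true⟩
    rw [← isOpen_compl_iff, show (O true)ᶜ = O false from Set.ext fun z =>
      ⟨fun h => (hcover z).resolve_left h, fun h h' => hdisj z h' h⟩]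
    exact hO false
  have hy₀ : py (IsLocalRing.closedPoint k) ∈ O true := by
    obtain ⟨V, hV, Ω, hΩ, hzΩ, hle, hconn⟩ := exists_nbhd (N' := N') (e := e) hs (py (IsLocalRing.closedPoint k))
    refine ⟨V, hV, Ω, hΩ, hzΩ, hle, hconn, py, hpy, hzΩ, iff_of_true rfl fun x' hx' => ?_⟩
    obtain ⟨c, hc⟩ := exists_link hs hn hW hV hΩ hle hconn
    rw [(hc py hpy hzΩ).2 x' hx']
    exact ((hc py hpy hzΩ).2 y hy.symm).symm
  have hmem : px (IsLocalRing.closedPoint k) ∈ connectedComponent (py (IsLocalRing.closedPoint k)) := by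
    have hrange : Set.range π = sfib N' := by
      rw [Scheme.Pullback.range_fst]
      show N'.hom ⁻¹' Set.range ε = _
      rw [show Set.range ε = {IsLocalRing.closedPoint R'} from Set.eq_singleton_iff_unique_mem.2
        ⟨⟨IsLocalRing.closedPoint k, spec_map_closed _ (surjective_e hs) _⟩,
          by rintro _ ⟨z, rfl⟩; exact spec_map_closed _ (surjective_e hs) _⟩]
    have hK : _root_.IsPreconnected (π ⁻¹' connectedComponentIn (sfib N') (red e q y)) := by
      rw [← π.isEmbedding.isInducing.isPreconnected_image,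
        Set.image_preimage_eq_of_subset ((connectedComponentIn_subset _ _).trans hrange.ge)]
      exact isPreconnected_connectedComponentIn
    exact hK.subset_connectedComponent (by rw [Set.mem_preimage, hy]; exact mem_connectedComponentIn (red_mem hs y))
      (by rw [Set.mem_preimage, hx]; exact h)
  obtain ⟨V, hV, Ω, hΩ, hzΩ, hle, hconn, p, hp, hpΩ, hg⟩ := hclopen.connectedComponent_subset hy₀ hmem
  have hgx : Good px := hall hV hΩ hle hconn p px hp hpΩ hpx hzΩ (hg.1 rfl)
  show pW x ∈ C₁
  rw [← hgx x hx.symm]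
  exact mem_connectedComponentIn (pW_mem hs x)

include hs hn in
/-- Every component of the special fibre contains a reduction. -/
theorem exists_red_mem (hW : WeilRes.IsWeilRes (bf R R') N' W q) {y : N'.left} (hy : y ∈ sfib N') :
    ∃ x : Tst R k ⟶ W, red e q x ∈ connectedComponentIn (sfib N') y := by
  let ε : Spec (CommRingCat.of k) ⟶ Spec (CommRingCat.of R') := Spec.map (CommRingCat.ofHom e.toRingHom)
  let π := pullback.fst N'.hom ε
  let snd' := pullback.snd N'.hom ε
  haveI : JacobsonSpace ↥(pullback N'.hom ε) := LocallyOfFiniteType.jacobsonSpace snd'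
  obtain ⟨z, hz⟩ : y ∈ Set.range π := by
    rw [Scheme.Pullback.range_fst]
    exact ⟨IsLocalRing.closedPoint k, (spec_map_closed _ (surjective_e hs) _).trans hy.symm⟩
  obtain ⟨w, hw, hwc⟩ := nonempty_inter_closedPoints (Z := connectedComponent z)
    ⟨z, mem_connectedComponent⟩ isClosed_connectedComponent.isLocallyClosed
  obtain ⟨V, hV, Ω, hΩ, hwΩ, hle, hconn⟩ := exists_nbhd (N' := N') (e := e) hs w
  obtain ⟨c, hc⟩ := exists_link hs hn hW hV hΩ hle hconn
  obtain ⟨x, hx⟩ := (hc (pointOfClosedPoint snd' w hwc) (pointOfClosedPoint_comp _ _ _)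
    ((pointOfClosedPoint_apply snd' w hwc _).symm ▸ hwΩ)).1
  refine ⟨x, ?_⟩
  rw [hx, pointOfClosedPoint_apply, ← hz]
  refine (isPreconnected_connectedComponent.image π π.continuous.continuousOn).subset_connectedComponentIn
    ⟨z, mem_connectedComponent, rfl⟩ ?_ ⟨w, hw, rfl⟩
  rintro _ ⟨u, -, rfl⟩
  show N'.hom (π u) = IsLocalRing.closedPoint R'
  rw [← Scheme.Hom.comp_apply, pullback.condition, Scheme.Hom.comp_apply]
  exact spec_map_closed _ (surjective_e hs) _

end Groth.Agent.WeilNeutral
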